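import Mathlib
import Cfsg.Agent.Lib.Twist.SymTab
import Cfsg.Agent.Lib.Twist.Sharp

/-!
The diagram symmetries of `E₆`, `D₄`, `F₄`: tables, fixed Weyl groups and their Poincaré sums.
-/

set_option autoImplicit false

namespace CfsgLib.Twist

open CfsgLib.RGD CfsgLib.Weyl Cfsg.Lie

/-! ### type E6 -/

/-- the symmetry of the roots and its inverse -/
def tRhoE6 : ℕ := 0x47464542374441363f34313c2d2926244340353e33303d322f2e3b2c28253a2b27392a380f1d0e201c0d221f1b0c1918150a17140912070423211e1a0b16130811060310050201000000000000000000000000000000000000000000000000000000000000000000000000000000000000000000000000000000000000000000000000000000000000000000000000000000000000000000000000000000000000000000000000000000000000000000000000000000000000000000000000000000000000000000000000000000000000000000000000000000000000000000000000000000000000000000000000000000000000000000000000000000000047464542374441363f34313c2d2926244340353e33303d322f2e3b2c28253a2b27392a380f1d0e201c0d221f1b0c1918150a17140912070423211e1a0b1613081106031005020100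
/-- the symmetry of the nodes and its inverse -/
def tPiE6 : ℕ := 0x20304010500000000000000000000000000000000000000000000000000000000000000000000000000000000000000000000000000000000000000000000000000000000000000000000000000000000000000000000000000000000000000000000000000000000000000000000000000000000000000000000000000000000000000000000000000000000000000000000000000000000000000000000000000000000000000000000000000000000000000000000000000000000000000000000000000000000000000000000000000000000000000000000000000000000000000000000000000000000000000000000000000000000000000000000000203040105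
/-- the orbits of the nodes -/
def tOrbE6 : ℕ := 0x30201020003
/-- the generators of `W1` and the longest element -/
def tSwE6 : ℕ := 0x10205100306110813160b1a1e21230407120914170a1518190c1b1f220d1c200e1d0f382a39272b3a25282c3b2e2f323d30333e3540432426292d3c31343f36414437424546470000000000000000000000000000000000000000000000000000000000000000000000000000000000000000000000000000000000000000000000000000000000000000000000000000000000000000000000000000000000000000000000000000000000000000000000000000000000000000000000000000000000000000000000000000000000000000000000000000000000000000000000000000000000000000000000000000000000000000000000000000000047464543443735363334322c2d2b2a0f4240413e3f3d30312f2e3b3c3a39282927252623242122201e1f0e0d0b0c191816170a0809060705381d1c1a1b1513141112100304020100000000000000000000000000000000000000000000000000000000000000000000000000000000000000000000000000000000000000000000000000000000000000000000000000000000000000000000000000000000000000000000000000000000000000000000000000000000000000000000000000000000000000000000000000000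0000000000000000000000000000000000000000000000000000000000000000000000000000000000000000000000000000047464142404445433f3d3e3c3a3b3839363735312f303432332e2927281d2d2b2c2422262125231b1c1a2a1f201e191415131718161210110e0f0c0d0b090a080402030705060100000000000000000000000000000000000000000000000000000000000000000000000000000000000000000000000000000000000000000000000000000000000000000000000000000000000000000000000000000000000000000000000000000000000000000000000000000000000000000000000000000000000000000000000000000000000000000000000000000000000000000000000000000000000000000000000000000000000000000000000000000000004745464443423f3e41403d3c3b393a3837343336353231302e2f2d2c2a2b262520292824231f1e2722211c1d1b1a181917161512111413100f0d0e0c0b0a070609080504030102000000000000000000000000000000000000000000000000000000000000000000000000000000000000000000000000000000000000000000000000000000000000000000000000000000000000000000000000000000000000000000000000000000000000000000000000000000000000000000000000000000000000000000000000000000000000000000000000000000000000000000000000000000000000000000000000000000000000000000000000000000000046474544434241403c3b3a3f3e3d39383736352d2c2b292827193433322a31302f2625242322211817161d1514132e201f1e1c1b1a1211100f0e0a09080d0c0b0706050403020001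

theorem symChkE6 : symChk chevE6.rank chevE6.nroots 4 tSE6 tTE6 tRhoE6 tPiE6 tOrbE6 = true := by
  decide +kernel

/-- the diagram symmetry -/
def symE6 : Sym (rootSys rtOKE6) (Fin 4) := symTab rtOKE6 tablesOKE6 symChkE6

/-- the nodes -/
def ndE6 (i : Fin 6) : Fin chevE6.rank := i

/-- the roots -/
def rtE6 (r : Fin 72) : Fin chevE6.nroots := r

theorem swE6 (b : Fin 4) (r : Fin chevE6.nroots) : (symE6.sw b r : ℕ) = actT tSwE6 b r :=
  sw_val rtOKE6 tablesOKE6 symChkE6 [[1], [3], [2, 4], [0, 5]] (by decide +kernel) b r

theorem w0E6 (r : Fin chevE6.nroots) : (w0 (rootSys rtOKE6) Set.univ r : ℕ) = actT tSwE6 4 r :=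
  w0_val rtOKE6 tablesOKE6 (p := fun _ => true) (by simp) (l := [0, 1, 2, 0, 3, 1, 2, 0, 3, 2, 4, 3, 1, 2, 0, 3, 2, 4, 3, 1, 5, 4, 3, 1, 2, 0, 3, 2, 4, 3, 1, 5, 4, 3, 2, 0]) (by decide +kernel) r

/-- the fundamental roots with their orbits -/
def soE6 : List (ℕ × Fin 4) := [(56, 3), (46, 0), (42, 2), (39, 1), (37, 2), (36, 3)]

theorem soE6_eq : soE6 = (List.finRange chevE6.rank).map
    fun i : Fin chevE6.rank => (chevE6.simple i, symE6.orb i) := by decide +kernel

/-- the weights of the orbits -/
def wtE6 : Fin 4 → ℕ := ![1, 1, 2, 2]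

/-- coset representatives -/
def repsE6_0 : List (List (Fin 4)) := [[], [0], [1, 0], [2, 1, 0], [1, 2, 1, 0], [3, 2, 1, 0], [0, 1, 2, 1, 0], [3, 1, 2, 1, 0], [3, 0, 1, 2, 1, 0], [2, 3, 1, 2, 1, 0], [2, 3, 0, 1, 2, 1, 0], [1, 2, 3, 1, 2, 1, 0], [1, 2, 3, 0, 1, 2, 1, 0], [0, 1, 2, 3, 1, 2, 1, 0], [0, 1, 2, 3, 0, 1, 2, 1, 0], [2, 1, 2, 3, 0, 1, 2, 1, 0], [2, 0, 1, 2, 3, 0, 1, 2, 1, 0], [3, 2, 1, 2, 3, 0, 1, 2, 1, 0], [1, 2, 0, 1, 2, 3, 0, 1, 2, 1, 0], [3, 2, 0, 1, 2, 3, 0, 1, 2, 1, 0], [3, 1, 2, 0, 1, 2, 3, 0, 1, 2, 1, 0], [2, 3, 1, 2, 0, 1, 2, 3, 0, 1, 2, 1, 0], [1, 2, 3, 1, 2, 0, 1, 2, 3, 0, 1, 2, 1, 0], [0, 1, 2, 3, 1, 2, 0, 1, 2, 3, 0, 1, 2, 1, 0]]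

theorem levE6_0 : levelChk chevE6.nroots tSwE6 soE6 [1, 2, 3] [0, 1, 2, 3] repsE6_0 = true := by decide +kernel

theorem expE6_0 : (repsE6_0.map fun d => (d.map wtE6).sum) = [0, 1, 2, 4, 5, 6, 6, 7, 8, 9, 10, 10, 11, 11, 12, 13, 14, 15, 15, 16, 17, 19, 20, 21] := by decide +kernel

/-- coset representatives -/
def repsE6_1 : List (List (Fin 4)) := [[], [3], [2, 3], [1, 2, 3], [2, 1, 2, 3], [3, 2, 1, 2, 3]]

theorem levE6_1 : levelChk chevE6.nroots tSwE6 soE6 [1, 2] [1, 2, 3] repsE6_1 = true := by decide +kernel

theorem expE6_1 : (repsE6_1.map fun d => (d.map wtE6).sum) = [0, 2, 4, 5, 7, 9] := by decide +kernel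

/-- coset representatives -/
def repsE6_2 : List (List (Fin 4)) := [[], [2], [1, 2], [2, 1, 2]]

theorem levE6_2 : levelChk chevE6.nroots tSwE6 soE6 [1] [1, 2] repsE6_2 = true := by decide +kernel

theorem expE6_2 : (repsE6_2.map fun d => (d.map wtE6).sum) = [0, 2, 3, 5] := by decide +kernel

/-- coset representatives -/
def repsE6_3 : List (List (Fin 4)) := [[], [1]]

theorem levE6_3 : levelChk chevE6.nroots tSwE6 soE6 [] [1] repsE6_3 = true := by decide +kernel

theorem expE6_3 : (repsE6_3.map fun d => (d.map wtE6).sum) = [0, 1] := by decide +kernel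

section
variable {R : Type*} [CommSemiring R] (c : Equiv.Perm (Fin chevE6.nroots) → R) (Q : R) (h1 : c 1 = 1)
  (hc : ∀ v ∈ symE6.W1, ∀ b, (∀ i ∈ symE6.J b, (rootSys rtOKE6).Pos (v ((rootSys rtOKE6).simple i))) →
    c (v * symE6.sw b) = c v * Q ^ wtE6 b)
include h1 hc

theorem poincareE6 [Fintype symE6.W1] : ∑ w : symE6.W1, c w =
    (1 + Q + Q ^ 2 + Q ^ 4 + Q ^ 5 + 2 * Q ^ 6 + Q ^ 7 + Q ^ 8 + Q ^ 9 + 2 * Q ^ 10 + 2 * Q ^ 11 + Q ^ 12 + Q ^ 13 + Q ^ 14 + 2 * Q ^ 15 + Q ^ 16 + Q ^ 17 + Q ^ 19 + Q ^ 20 + Q ^ 21) * (1 + Q ^ 2 + Q ^ 4 + Q ^ 5 + Q ^ 7 + Q ^ 9) * (1 + Q ^ 2 + Q ^ 3 + Q ^ 5) * (1 + Q) := by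
  have k := level_base symE6 c h1
  replace k := levelChk_sound symE6 swE6 soE6_eq c Q wtE6 h1 hc levE6_3 k
  replace k := levelChk_sound symE6 swE6 soE6_eq c Q wtE6 h1 hc levE6_2 k
  replace k := levelChk_sound symE6 swE6 soE6_eq c Q wtE6 h1 hc levE6_1 k
  replace k := levelChk_sound symE6 swE6 soE6_eq c Q wtE6 h1 hc levE6_0 k
  rw [level_top symE6 c (by decide) k, expE6_0, expE6_1, expE6_2, expE6_3]
  simp only [List.map_cons, List.map_nil, List.sum_cons, List.sum_nil]
  ring

theorem weight_w0E6 : c (w0 (rootSys rtOKE6) Set.univ) = Q ^ 36 :=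
  weight_w0 rtOKE6 symE6 swE6 soE6_eq c Q wtE6 h1 hc [0, 1, 0, 2, 1, 0, 2, 1, 2, 3, 2, 1, 0, 2, 1, 2, 3, 2, 1, 0, 2, 1, 2, 3] (by decide +kernel)

end

theorem posJE6_0 (r : Fin chevE6.nroots) : r ∈ posJ (rootSys rtOKE6) (symE6.J 0) ↔ (r : ℕ) ∈ [46] :=
  posJ_iff rtOKE6 (p := fun i => Nat.beq (actT tOrbE6 0 i) 0)
    (fun i => by rw [Sym.mem_J, Fin.ext_iff, Nat.beq_eq]; rfl) (by decide +kernel) r

theorem posJE6_1 (r : Fin chevE6.nroots) : r ∈ posJ (rootSys rtOKE6) (symE6.J 1) ↔ (r : ℕ) ∈ [39] :=
  posJ_iff rtOKE6 (p := fun i => Nat.beq (actT tOrbE6 0 i) 1)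
    (fun i => by rw [Sym.mem_J, Fin.ext_iff, Nat.beq_eq]; rfl) (by decide +kernel) r

theorem posJE6_2 (r : Fin chevE6.nroots) : r ∈ posJ (rootSys rtOKE6) (symE6.J 2) ↔ (r : ℕ) ∈ [37, 42] :=
  posJ_iff rtOKE6 (p := fun i => Nat.beq (actT tOrbE6 0 i) 2)
    (fun i => by rw [Sym.mem_J, Fin.ext_iff, Nat.beq_eq]; rfl) (by decide +kernel) r

theorem posJE6_3 (r : Fin chevE6.nroots) : r ∈ posJ (rootSys rtOKE6) (symE6.J 3) ↔ (r : ℕ) ∈ [36, 56] :=
  posJ_iff rtOKE6 (p := fun i => Nat.beq (actT tOrbE6 0 i) 3)
    (fun i => by rw [Sym.mem_J, Fin.ext_iff, Nat.beq_eq]; rfl) (by decide +kernel) r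

theorem coxE6 : Nonempty (symE6.W1 ≃* CoxeterMatrix.F₄.Group) :=
  exists_equiv_coxeter rtOKE6 symE6 swE6 _ (by decide +kernel)

theorem irrE6 (J : Set (Fin 4)) (h1 : J.Nonempty) (h2 : Jᶜ.Nonempty) :
    ∃ b ∈ J, ∃ c ∉ J, symE6.sw b * symE6.sw c ≠ symE6.sw c * symE6.sw b := by
  have k1 := sw_ne_of_ordChk rtOKE6 symE6 swE6 (b := 0) (c := 1) (k := 3) (by decide) (by decide +kernel)
  have k2 := sw_ne_of_ordChk rtOKE6 symE6 swE6 (b := 1) (c := 2) (k := 4) (by decide) (by decide +kernel)
  have k3 := sw_ne_of_ordChk rtOKE6 symE6 swE6 (b := 2) (c := 3) (k := 3) (by decide) (by decide +kernel)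
  by_contra hc
  push Not at hc
  have e1 : 0 ∈ J ↔ 1 ∈ J := ⟨fun a => by_contra fun b => k1 (hc _ a _ b),
    fun a => by_contra fun b => k1 (hc _ a _ b).symm⟩
  have e2 : 1 ∈ J ↔ 2 ∈ J := ⟨fun a => by_contra fun b => k2 (hc _ a _ b),
    fun a => by_contra fun b => k2 (hc _ a _ b).symm⟩
  have e3 : 2 ∈ J ↔ 3 ∈ J := ⟨fun a => by_contra fun b => k3 (hc _ a _ b),
    fun a => by_contra fun b => k3 (hc _ a _ b).symm⟩
  obtain ⟨a, ha⟩ := h1
  obtain ⟨b, hb⟩ := h2
  have : ∀ x : Fin 4, x ∈ J ↔ 0 ∈ J := fun x => by fin_cases x <;> simp_all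
  exact hb ((this b).2 ((this a).1 ha))

/-! ### type D4 -/

/-- the symmetry of the roots and its inverse -/
def tRhoD4 : ℕ := 0x171614110f0c1513100e120d0a05090704020b08060301000000000000000000000000000000000000000000000000000000000000000000000000000000000000000000000000000000000000000000000000000000000000000000000000000000000000000000000000000000000000000000000000000000000000000000000000000000000000000000000000000000000000000000000000000000000000000000000000000000000000000000000000000000000000000000000000000000000000000000000000000000000000000000000000000000000000000000000000000000000000000000000000000000000000000000000000000000000017161115100d140f130e0c12050b090408030a0702060100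
/-- the symmetry of the nodes and its inverse -/
def tPiD4 : ℕ := 0x200010300000000000000000000000000000000000000000000000000000000000000000000000000000000000000000000000000000000000000000000000000000000000000000000000000000000000000000000000000000000000000000000000000000000000000000000000000000000000000000000000000000000000000000000000000000000000000000000000000000000000000000000000000000000000000000000000000000000000000000000000000000000000000000000000000000000000000000000000000000000000000000000000000000000000000000000000000000000000000000000000000000000000000000000000000030102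
/-- the orbits of the nodes -/
def tOrbD4 : ℕ := 0x1010001
/-- the generators of `W1` and the longest element -/
def tSwD4 : ℕ := 0x102030405060708090a0b0c0d0e0f101112131415161700000000000000000000000000000000000000000000000000000000000000000000000000000000000000000000000000000000000000000000000000000000000000000000000000000000000000000000000000000000000000000000000000000000000000000000000000000000000000000000000000000000000000000000000000000000000000000000000000000000000000000000000000000000000000000000000000000000000000000000000000000000000000000000000000000000000000000000000000000000000000000000000000000000000000000000000000000000170e0f101105131415160a0b0c0d0102030412060708090000000000000000000000000000000000000000000000000000000000000000000000000000000000000000000000000000000000000000000000000000000000000000000000000000000000000000000000000000000000000000000000000000000000000000000000000000000000000000000000000000000000000000000000000000000000000000000000000000000000000000000000000000000000000000000000000000000000000000000000000000000000000000000000000000000000000000000000000000000000000000000000000000000000000000000000000000000000161715141213110d0c09100f08070e0b0a06040503020001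

theorem symChkD4 : symChk chevD4.rank chevD4.nroots 2 tSD4 tTD4 tRhoD4 tPiD4 tOrbD4 = true := by
  decide +kernel

/-- the diagram symmetry -/
def symD4 : Sym (rootSys rtOKD4) (Fin 2) := symTab rtOKD4 tablesOKD4 symChkD4

/-- the nodes -/
def ndD4 (i : Fin 4) : Fin chevD4.rank := i

/-- the roots -/
def rtD4 (r : Fin 24) : Fin chevD4.nroots := r

theorem swD4 (b : Fin 2) (r : Fin chevD4.nroots) : (symD4.sw b r : ℕ) = actT tSwD4 b r :=
  sw_val rtOKD4 tablesOKD4 symChkD4 [[1], [0, 2, 3]] (by decide +kernel) b r

theorem w0D4 (r : Fin chevD4.nroots) : (w0 (rootSys rtOKD4) Set.univ r : ℕ) = actT tSwD4 2 r :=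
  w0_val rtOKD4 tablesOKD4 (p := fun _ => true) (by simp) (l := [0, 1, 0, 2, 1, 0, 3, 1, 0, 2, 1, 3]) (by decide +kernel) r

/-- the fundamental roots with their orbits -/
def soD4 : List (ℕ × Fin 2) := [(18, 1), (14, 0), (13, 1), (12, 1)]

theorem soD4_eq : soD4 = (List.finRange chevD4.rank).map
    fun i : Fin chevD4.rank => (chevD4.simple i, symD4.orb i) := by decide +kernel

/-- the weights of the orbits -/
def wtD4 : Fin 2 → ℕ := ![1, 3]

/-- coset representatives -/
def repsD4_0 : List (List (Fin 2)) := [[], [1], [0, 1], [1, 0, 1], [0, 1, 0, 1], [1, 0, 1, 0, 1]]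

theorem levD4_0 : levelChk chevD4.nroots tSwD4 soD4 [0] [0, 1] repsD4_0 = true := by decide +kernel

theorem expD4_0 : (repsD4_0.map fun d => (d.map wtD4).sum) = [0, 3, 4, 7, 8, 11] := by decide +kernel

/-- coset representatives -/
def repsD4_1 : List (List (Fin 2)) := [[], [0]]

theorem levD4_1 : levelChk chevD4.nroots tSwD4 soD4 [] [0] repsD4_1 = true := by decide +kernel

theorem expD4_1 : (repsD4_1.map fun d => (d.map wtD4).sum) = [0, 1] := by decide +kernel

section
variable {R : Type*} [CommSemiring R] (c : Equiv.Perm (Fin chevD4.nroots) → R) (Q : R) (h1 : c 1 = 1)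
  (hc : ∀ v ∈ symD4.W1, ∀ b, (∀ i ∈ symD4.J b, (rootSys rtOKD4).Pos (v ((rootSys rtOKD4).simple i))) →
    c (v * symD4.sw b) = c v * Q ^ wtD4 b)
include h1 hc

theorem poincareD4 [Fintype symD4.W1] : ∑ w : symD4.W1, c w =
    (1 + Q ^ 3 + Q ^ 4 + Q ^ 7 + Q ^ 8 + Q ^ 11) * (1 + Q) := by
  have k := level_base symD4 c h1
  replace k := levelChk_sound symD4 swD4 soD4_eq c Q wtD4 h1 hc levD4_1 k
  replace k := levelChk_sound symD4 swD4 soD4_eq c Q wtD4 h1 hc levD4_0 k
  rw [level_top symD4 c (by decide) k, expD4_0, expD4_1]
  simp only [List.map_cons, List.map_nil, List.sum_cons, List.sum_nil]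
  ring

theorem weight_w0D4 : c (w0 (rootSys rtOKD4) Set.univ) = Q ^ 12 :=
  weight_w0 rtOKD4 symD4 swD4 soD4_eq c Q wtD4 h1 hc [0, 1, 0, 1, 0, 1] (by decide +kernel)

end

theorem posJD4_0 (r : Fin chevD4.nroots) : r ∈ posJ (rootSys rtOKD4) (symD4.J 0) ↔ (r : ℕ) ∈ [14] :=
  posJ_iff rtOKD4 (p := fun i => Nat.beq (actT tOrbD4 0 i) 0)
    (fun i => by rw [Sym.mem_J, Fin.ext_iff, Nat.beq_eq]; rfl) (by decide +kernel) r

theorem posJD4_1 (r : Fin chevD4.nroots) : r ∈ posJ (rootSys rtOKD4) (symD4.J 1) ↔ (r : ℕ) ∈ [12, 13, 18] :=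
  posJ_iff rtOKD4 (p := fun i => Nat.beq (actT tOrbD4 0 i) 1)
    (fun i => by rw [Sym.mem_J, Fin.ext_iff, Nat.beq_eq]; rfl) (by decide +kernel) r

theorem coxD4 : Nonempty (symD4.W1 ≃* CoxeterMatrix.G₂.Group) :=
  exists_equiv_coxeter rtOKD4 symD4 swD4 _ (by decide +kernel)

theorem irrD4 (J : Set (Fin 2)) (h1 : J.Nonempty) (h2 : Jᶜ.Nonempty) :
    ∃ b ∈ J, ∃ c ∉ J, symD4.sw b * symD4.sw c ≠ symD4.sw c * symD4.sw b := by
  have k1 := sw_ne_of_ordChk rtOKD4 symD4 swD4 (b := 0) (c := 1) (k := 6) (by decide) (by decide +kernel)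
  obtain ⟨a, ha⟩ := h1
  obtain ⟨b, hb⟩ := h2
  refine ⟨a, ha, b, hb, ?_⟩
  have hab : a ≠ b := fun e => hb (e ▸ ha)
  fin_cases a <;> fin_cases b
  exacts [absurd rfl hab, k1, k1.symm, absurd rfl hab]

/-! ### type F4 -/

/-- the symmetry of the roots and its inverse -/
def tRhoF4 : ℕ := 0x2c28272f26241d2e2d2b202a1f1a1825231c291e19221b210e140d161106130c0a171510050f040201120b0900080703000000000000000000000000000000000000000000000000000000000000000000000000000000000000000000000000000000000000000000000000000000000000000000000000000000000000000000000000000000000000000000000000000000000000000000000000000000000000000000000000000000000000000000000000000000000000000000000000000000000000000000000000000000000000000000000000000000000000000000000000000000000000000000000000000000000000000000000000000000002c28272f26241d2e2d2b202a1f1a1825231c291e19221b210e140d161106130c0a171510050f040201120b0900080703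
/-- the symmetry of the nodes and its inverse -/
def tPiF4 : ℕ := 0x1020300000000000000000000000000000000000000000000000000000000000000000000000000000000000000000000000000000000000000000000000000000000000000000000000000000000000000000000000000000000000000000000000000000000000000000000000000000000000000000000000000000000000000000000000000000000000000000000000000000000000000000000000000000000000000000000000000000000000000000000000000000000000000000000000000000000000000000000000000000000000000000000000000000000000000000000000000000000000000000000000000000000000000000000000000010203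
/-- the orbits of the nodes -/
def tOrbF4 : ℕ := 0x10100
/-- the generators of `W1` and the longest element -/
def tSwF4 : ℕ := 0x102030405060708090a0b0c0d0e0f101112131415161718191a1b1c1d1e1f202122232425262728292a2b2c2d2e2f000000000000000000000000000000000000000000000000000000000000000000000000000000000000000000000000000000000000000000000000000000000000000000000000000000000000000000000000000000000000000000000000000000000000000000000000000000000000000000000000000000000000000000000000000000000000000000000000000000000000000000000000000000000000000000000000000000000000000000000000000000000000000000000000000000000000000000000000000000002f2a2b2c2d2e292426272128222325181a111d13141f16200f19101b1c121e15170a0c0d070e08090b06010203040500000000000000000000000000000000000000000000000000000000000000000000000000000000000000000000000000000000000000000000000000000000000000000000000000000000000000000000000000000000000000000000000000000000000000000000000000000000000000000000000000000000000000000000000000000000000000000000000000000000000000000000000000000000000000000000000000000000000000000000000000000000000000000000000000000000000000000000000000000000002e2f2d28201e1f2c2725261c1d1b0e2b292a232422191a171815160d0b0c05060421141213090a080310110f07020001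

theorem symChkF4 : symChk chevF4.rank chevF4.nroots 2 tSF4 tTF4 tRhoF4 tPiF4 tOrbF4 = true := by
  decide +kernel

/-- the diagram symmetry -/
def symF4 : Sym (rootSys rtOKF4) (Fin 2) := symTab rtOKF4 tablesOKF4 symChkF4

/-- the nodes -/
def ndF4 (i : Fin 4) : Fin chevF4.rank := i

/-- the roots -/
def rtF4 (r : Fin 48) : Fin chevF4.nroots := r

theorem swF4 (b : Fin 2) (r : Fin chevF4.nroots) : (symF4.sw b r : ℕ) = actT tSwF4 b r :=
  sw_val rtOKF4 tablesOKF4 symChkF4 [[0, 3], [1, 2, 1, 2]] (by decide +kernel) b r

theorem w0F4 (r : Fin chevF4.nroots) : (w0 (rootSys rtOKF4) Set.univ r : ℕ) = actT tSwF4 2 r :=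
  w0_val rtOKF4 tablesOKF4 (p := fun _ => true) (by simp) (l := [0, 1, 0, 2, 1, 0, 2, 1, 2, 3, 2, 1, 0, 2, 1, 2, 3, 2, 1, 0, 2, 1, 2, 3]) (by decide +kernel) r

/-- the fundamental roots with their orbits -/
def soF4 : List (ℕ × Fin 2) := [(33, 0), (27, 1), (25, 1), (24, 0)]

theorem soF4_eq : soF4 = (List.finRange chevF4.rank).map
    fun i : Fin chevF4.rank => (chevF4.simple i, symF4.orb i) := by decide +kernel

/-- the weights of the orbits -/
def wtF4 : Fin 2 → ℕ := ![1, 2]

/-- coset representatives -/
def repsF4_0 : List (List (Fin 2)) := [[], [1], [0, 1], [1, 0, 1], [0, 1, 0, 1], [1, 0, 1, 0, 1], [0, 1, 0, 1, 0, 1], [1, 0, 1, 0, 1, 0, 1]]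

theorem levF4_0 : levelChk chevF4.nroots tSwF4 soF4 [0] [0, 1] repsF4_0 = true := by decide +kernel

theorem expF4_0 : (repsF4_0.map fun d => (d.map wtF4).sum) = [0, 2, 3, 5, 6, 8, 9, 11] := by decide +kernel

/-- coset representatives -/
def repsF4_1 : List (List (Fin 2)) := [[], [0]]

theorem levF4_1 : levelChk chevF4.nroots tSwF4 soF4 [] [0] repsF4_1 = true := by decide +kernel

theorem expF4_1 : (repsF4_1.map fun d => (d.map wtF4).sum) = [0, 1] := by decide +kernel

section
variable {R : Type*} [CommSemiring R] (c : Equiv.Perm (Fin chevF4.nroots) → R) (Q : R) (h1 : c 1 = 1)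
  (hc : ∀ v ∈ symF4.W1, ∀ b, (∀ i ∈ symF4.J b, (rootSys rtOKF4).Pos (v ((rootSys rtOKF4).simple i))) →
    c (v * symF4.sw b) = c v * Q ^ wtF4 b)
include h1 hc

theorem poincareF4 [Fintype symF4.W1] : ∑ w : symF4.W1, c w =
    (1 + Q ^ 2 + Q ^ 3 + Q ^ 5 + Q ^ 6 + Q ^ 8 + Q ^ 9 + Q ^ 11) * (1 + Q) := by
  have k := level_base symF4 c h1
  replace k := levelChk_sound symF4 swF4 soF4_eq c Q wtF4 h1 hc levF4_1 k
  replace k := levelChk_sound symF4 swF4 soF4_eq c Q wtF4 h1 hc levF4_0 k
  rw [level_top symF4 c (by decide) k, expF4_0, expF4_1]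
  simp only [List.map_cons, List.map_nil, List.sum_cons, List.sum_nil]
  ring

theorem weight_w0F4 : c (w0 (rootSys rtOKF4) Set.univ) = Q ^ 12 :=
  weight_w0 rtOKF4 symF4 swF4 soF4_eq c Q wtF4 h1 hc [0, 1, 0, 1, 0, 1, 0, 1] (by decide +kernel)

end

theorem posJF4_0 (r : Fin chevF4.nroots) : r ∈ posJ (rootSys rtOKF4) (symF4.J 0) ↔ (r : ℕ) ∈ [24, 33] :=
  posJ_iff rtOKF4 (p := fun i => Nat.beq (actT tOrbF4 0 i) 0)
    (fun i => by rw [Sym.mem_J, Fin.ext_iff, Nat.beq_eq]; rfl) (by decide +kernel) r

theorem posJF4_1 (r : Fin chevF4.nroots) : r ∈ posJ (rootSys rtOKF4) (symF4.J 1) ↔ (r : ℕ) ∈ [25, 27, 28, 30] :=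
  posJ_iff rtOKF4 (p := fun i => Nat.beq (actT tOrbF4 0 i) 1)
    (fun i => by rw [Sym.mem_J, Fin.ext_iff, Nat.beq_eq]; rfl) (by decide +kernel) r

theorem irrF4 (J : Set (Fin 2)) (h1 : J.Nonempty) (h2 : Jᶜ.Nonempty) :
    ∃ b ∈ J, ∃ c ∉ J, symF4.sw b * symF4.sw c ≠ symF4.sw c * symF4.sw b := by
  have k1 := sw_ne_of_ordChk rtOKF4 symF4 swF4 (b := 0) (c := 1) (k := 8) (by decide) (by decide +kernel)
  obtain ⟨a, ha⟩ := h1
  obtain ⟨b, hb⟩ := h2
  refine ⟨a, ha, b, hb, ?_⟩
  have hab : a ≠ b := fun e => hb (e ▸ ha)
  fin_cases a <;> fin_cases b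
  exacts [absurd rfl hab, k1, k1.symm, absurd rfl hab]

theorem orderOf_swF4 : orderOf (symF4.sw 0 * symF4.sw 1) = 8 :=
  orderOf_of_ordChk (swF4 0) (swF4 1) (by decide +kernel)

theorem w0F4_neg (r : Fin chevF4.nroots) : w0 (rootSys rtOKF4) Set.univ r = (rootSys rtOKF4).neg r := by
  apply Fin.ext
  rw [w0F4, rootSys_neg, tablesOKF4.neg_eq _ r.2]
  revert r
  decide +kernel

end CfsgLib.Twist
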